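import Mathlib

set_option autoImplicit false

namespace Groth.Agent.SemimodGapLib

theorem gaps_eq (S : Set ℕ) (c : ℕ) (hc : ∀ n, c ≤ n → n ∈ S) :
    (S ∩ Set.Iio c).ncard + Sᶜ.ncard = c := by
  have hsub : Sᶜ ⊆ Set.Iio c := fun x hx => by
    by_contra h; exact hx (hc x (not_lt.mp h))
  rw [← Set.ncard_union_eq ?_ ((Set.finite_Iio c).inter_of_right S) ((Set.finite_Iio c).subset hsub)]
  · rw [show S ∩ Set.Iio c ∪ Sᶜ = Set.Iio c from ?_, ← Finset.coe_Iio, Set.ncard_coe_finset, Nat.card_Iio]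
    ext x; constructor
    · rintro (h | h)
      · exact h.2
      · exact hsub h
    · intro h
      by_cases hx : x ∈ S
      · exact Or.inl ⟨hx, h⟩
      · exact Or.inr hx
  · exact Set.disjoint_left.mpr fun x hx hx' => hx' hx.1

theorem count_eq (S : Set ℕ) [DecidablePred (· ∈ S)] (c : ℕ) :
    Nat.count (· ∈ S) c = (S ∩ Set.Iio c).ncard := by
  rw [Nat.count_eq_card_filter_range, ← Set.ncard_coe_finset]
  congr 1; ext x; simp [and_comm]

theorem infinite_of (S : Set ℕ) (c : ℕ) (hc : ∀ n, c ≤ n → n ∈ S) : (setOf (fun m => m ∈ S)).Infinite := by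
  refine Set.Infinite.mono ?_ (Set.Ici_infinite c)
  exact fun x hx => hc x hx

theorem nth_le (S : Set ℕ) (c : ℕ) (hc : ∀ n, c ≤ n → n ∈ S) (i : ℕ) :
    Nat.nth (fun m => m ∈ S) i ≤ i + Sᶜ.ncard := by
  classical
  set N := Nat.nth (fun m => m ∈ S) i
  have h1 : (S ∩ Set.Iio N).ncard = i := by
    rw [← count_eq]; exact Nat.count_nth_of_infinite (infinite_of S c hc) i
  have hfin : Sᶜ.Finite := (Set.finite_Iio c).subset fun x hx => by
    by_contra h; exact hx (hc x (not_lt.mp h))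
  have h3 : (Set.Iio N \ S).ncard ≤ Sᶜ.ncard := Set.ncard_le_ncard (fun x hx => hx.2) hfin
  have h2 := Set.ncard_inter_add_ncard_sdiff_eq_ncard (Set.Iio N) S (Set.finite_Iio N)
  rw [Set.inter_comm, h1, ← Finset.coe_Iio, Set.ncard_coe_finset, Nat.card_Iio, Finset.coe_Iio] at h2
  omega

theorem nth_ge_eq (S : Set ℕ) (c : ℕ) (hc : ∀ n, c ≤ n → n ∈ S) (i : ℕ)
    (hi : (S ∩ Set.Iio c).ncard ≤ i) :
    Nat.nth (fun m => m ∈ S) i = i + Sᶜ.ncard := by
  classical
  refine le_antisymm (nth_le S c hc i) ?_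
  set N := Nat.nth (fun m => m ∈ S) i
  have h1 : (S ∩ Set.Iio N).ncard = i := by
    rw [← count_eq]; exact Nat.count_nth_of_infinite (infinite_of S c hc) i
  have hg := gaps_eq S c hc
  have hcN : c ≤ N := by
    by_contra h
    have : (S ∩ Set.Iio N).ncard < (S ∩ Set.Iio c).ncard := by
      refine Set.ncard_lt_ncard ?_ ((Set.finite_Iio c).inter_of_right S)
      refine Set.ssubset_iff_exists.mpr ⟨fun x hx => ⟨hx.1, lt_trans hx.2 (not_le.mp h)⟩,
        N, ⟨Nat.nth_mem_of_infinite (infinite_of S c hc) i, not_le.mp h⟩, fun hx => (lt_irrefl N) hx.2⟩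
    omega
  have hg' := gaps_eq S N (fun n hn => hc n (le_trans hcN hn))
  omega

theorem compare (S S' : Set ℕ) (cS : ℕ) (hcS : ∀ n, cS ≤ n → n ∈ S) (cS' : ℕ) (hcS' : ∀ n, cS' ≤ n → n ∈ S')
    (h1 : cS' = 0 ∨ cS' - 1 ∉ S') :
    (∀ i : ℕ, Nat.nth (fun m => m ∈ S) i + S'ᶜ.ncard ≤ Nat.nth (fun m => m ∈ S') i + Sᶜ.ncard) ↔
      ((S' ∩ Set.Iio cS').ncard ≤ (S ∩ Set.Iio cS).ncard ∧ ∀ i : ℕ, i < (S' ∩ Set.Iio cS').ncard →
        Nat.nth (fun m => m ∈ S) i + S'ᶜ.ncard ≤ Nat.nth (fun m => m ∈ S') i + Sᶜ.ncard) := by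
  classical
  refine ⟨fun h => ⟨?_, fun i _ => h i⟩, fun h i => ?_⟩
  · by_contra hlt
    set s' := (S' ∩ Set.Iio cS').ncard with hs'
    have hS := nth_ge_eq S cS hcS (s' - 1) (by omega)
    have hgap : cS' - 1 ∉ S' ∧ 0 < cS' := by
      rcases h1 with h0 | h0
      · subst h0; simp [hs'] at hlt
      · refine ⟨h0, Nat.pos_of_ne_zero fun hz => ?_⟩
        subst hz; simp [hs'] at hlt
    have hcount : Nat.count (· ∈ S') (cS' - 1) = s' := by
      have h := Nat.count_succ (· ∈ S') (cS' - 1)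
      rw [if_neg hgap.1, show cS' - 1 + 1 = cS' by omega, add_zero, count_eq S' cS'] at h
      exact h.symm
    have hN : Nat.nth (fun m => m ∈ S') (s' - 1) < cS' - 1 :=
      Nat.nth_lt_of_lt_count (by rw [hcount]; omega)
    have hg := gaps_eq S' cS' hcS'
    have := h (s' - 1)
    omega
  · rcases lt_or_ge i (S' ∩ Set.Iio cS').ncard with hi | hi
    · exact h.2 i hi
    · have := nth_ge_eq S' cS' hcS' i hi
      have := nth_le S cS hcS i
      omega

end Groth.Agent.SemimodGapLib
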